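import Cfsg.Agent.Lib.Recog.Walter.Sections.JR
import Cfsg.Agent.Lib.Recog.Walter.Sections.Shape
import Cfsg.Agent.Lib.Recog.Walter.Sections.Two
import Cfsg.Agent.Lib.Recog.Walter.PerfCent

/-!
Owner: helper10. Walter, pairs: general facts.

* `not_fixed`: no involution of a simple group is fixed by the normaliser of an abelian Sylow 2-subgroup.
* `one_class`: a group of Walter type has one class of involutions.
* `resOf H`: the solvable residual of `H` as a subgroup of the ambient group.
* `perfect_le_layer`, `exists_sylow_component`, `eq_bot_of_centralizes_omega`: facts on groups without odd core.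
-/

set_option autoImplicit false
set_option linter.style.haveILetI false
set_option linter.unusedSectionVars false

namespace CfsgLib.Walter.Pairs

open Subgroup
open scoped commutatorElement
open CfsgLib.AbelianSolvCent (AbSylow)
open CfsgLib.Walter.Sections (SecWalter)

universe u

section simple

variable {K : Type u} [Group K] [Finite K] [IsSimpleGroup K]

theorem oddCore_eq_bot (hna : ¬ IsMulCommutative K) : Cfsg.oddCore K = ⊥ := by
  refine (inferInstance : (Cfsg.oddCore K).Normal).eq_bot_or_eq_top.resolve_right fun h => ?_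
  refine hna ⟨⟨fun a b => IsSimpleGroup.comm_iff_isSolvable.mpr (Cfsg.Agent.S0205.result ?_) a b⟩⟩
  have h1 := CfsgLib.ZStar.odd_card_oddCore K
  rwa [h, Subgroup.card_top] at h1

theorem center_eq_bot (hna : ¬ IsMulCommutative K) : center K = ⊥ :=
  (inferInstance : (center K).Normal).eq_bot_or_eq_top.resolve_right fun h =>
    hna ⟨⟨fun a b => (mem_center_iff.1 (h ▸ mem_top b) a)⟩⟩

/-- No involution is fixed by the normaliser of an abelian Sylow 2-subgroup containing it. -/
theorem not_fixed (hna : ¬ IsMulCommutative K) (P : Sylow 2 K) (hP : IsMulCommutative ↥(P : Subgroup K))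
    {z : K} (hz : orderOf z = 2) (hzP : z ∈ (P : Subgroup K))
    (hN : ∀ n ∈ normalizer ((P : Subgroup K) : Set K), n * z = z * n) : False := by
  have hI := Sections.isolated_of_normalizer P hP hz hzP hN
  have hc : z ∈ center K := mem_center_iff.2 fun g => by
    have h := CfsgLib.ZStar.mem_oddCore_of_isolated hI g
    rw [oddCore_eq_bot hna, mem_bot] at h
    exact (commutatorElement_eq_one_iff_mul_comm.1 h).symm
  rw [center_eq_bot hna, mem_bot] at hc
  exact CfsgLib.Signalizer.involution_ne_one hz hc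

end simple

/-- A group of Walter type has one class of involutions. -/
theorem one_class {K : Type u} [Group K] [Finite K] (h : IsWalterType K) {v w : K} (hv : orderOf v = 2)
    (hw : orderOf w = 2) : IsConj v w := by
  rcases h with h | h | h
  · exact Sections.two_isConj h hv hw
  · exact h.pslData.conj v w hv hw
  · exact Sections.jr_isConj h hv hw

section residual

variable {X : Type u} [Group X] [Finite X]

/-- The solvable residual of `H`. -/
def resOf (H : Subgroup X) : Subgroup X := (Three.res ↥H).map H.subtype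

theorem resOf_le (H : Subgroup X) : resOf H ≤ H := map_subtype_le _

theorem resOf_perfect (H : Subgroup X) : ⁅resOf H, resOf H⁆ = resOf H := by
  rw [resOf, ← map_commutator, Three.res_perfect]

theorem le_resOf {H P : Subgroup X} (hP : P ≤ H) (hp : ⁅P, P⁆ = P) : P ≤ resOf H := by
  intro x hx
  refine ⟨⟨x, hP hx⟩, Three.le_res (K := P.subgroupOf H) (map_injective H.subtype_injective ?_) hx, rfl⟩
  rw [map_commutator, map_subgroupOf_eq_of_le hP, hp]

theorem normalizer_le_normalizer_resOf (H : Subgroup X) :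
    normalizer (H : Set X) ≤ normalizer (resOf H : Set X) := by
  have key : ∀ g ∈ normalizer (H : Set X), (resOf H).map (MulAut.conj g).toMonoidHom ≤ resOf H := fun g hg =>
    le_resOf (((map_mono (resOf_le H)).trans (mem_normalizer_iff_map_conj_eq.1 hg).le))
      (by rw [← map_commutator, resOf_perfect])
  intro g hg
  refine mem_normalizer_iff_map_conj_eq.2 (Subgroup.eq_of_le_of_card_ge (key g hg) (le_of_eq ?_))
  exact Nat.card_congr (equivMapOfInjective _ _ (MulAut.conj g).injective).toEquiv

theorem eq_bot_of_perfect_solvable {P : Subgroup X} (hp : ⁅P, P⁆ = P) (hs : Group.IsSolvable ↥P) :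
    P = ⊥ := by
  have h : (⊤ : Subgroup ↥P) ≤ Three.res ↥P :=
    Three.le_res (K := ⊤) (map_injective P.subtype_injective (by
      rw [map_commutator, ← MonoidHom.range_eq_map, range_subtype, hp]))
  rw [Three.res_eq_bot hs] at h
  haveI : Subsingleton ↥P := (Subgroup.subsingleton_iff).1 (subsingleton_of_bot_eq_top (le_bot_iff.1 h).symm)
  exact Subgroup.eq_bot_of_subsingleton P

theorem eq_bot_of_perfect_odd {P : Subgroup X} (hp : ⁅P, P⁆ = P) (ho : Odd (Nat.card P)) : P = ⊥ :=
  eq_bot_of_perfect_solvable hp (Cfsg.Agent.S0205.result ho)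

/-- A perfect subgroup lies in every normal subgroup with solvable quotient. -/
theorem perfect_le_of_solvable {P N : Subgroup X} [N.Normal] (hp : ⁅P, P⁆ = P)
    (hs : Group.IsSolvable (X ⧸ N)) : P ≤ N := by
  have h := eq_bot_of_perfect_solvable (P := P.map (QuotientGroup.mk' N)) (by rw [← map_commutator, hp])
    (Group.isSolvable_of_isSolvable_injective (f := (P.map (QuotientGroup.mk' N)).subtype)
      (subtype_injective _))
  rwa [Subgroup.map_eq_bot_iff, QuotientGroup.ker_mk'] at h

variable (hA : AbSylow X) (hO : Cfsg.oddCore X = ⊥)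
include hA hO

/-- Perfect subgroups lie in the layer. -/
theorem perfect_le_layer {P : Subgroup X} (hp : ⁅P, P⁆ = P) : P ≤ Cfsg.layer X := by
  haveI : Fact (Nat.Prime 2) := ⟨Nat.prime_two⟩
  haveI : (Cfsg.layer X).Normal := CfsgLib.Components.layer_normal
  set N := Cfsg.pCore 2 X ⊔ Cfsg.layer X with hN
  have hPN : P ≤ N := perfect_le_of_solvable hp (Cfsg.Agent.S0205.result (by
    rw [← index_eq_card]; exact Sections.odd_index hA hO))
  set π := QuotientGroup.mk' (Cfsg.layer X)
  have hle : P.map π ≤ (Cfsg.pCore 2 X).map π := by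
    refine (map_mono hPN).trans (le_of_eq ?_)
    rw [hN, Subgroup.map_sup, (Subgroup.map_eq_bot_iff (Cfsg.layer X)).2 (QuotientGroup.ker_mk' _).ge, sup_bot_eq]
  obtain ⟨S⟩ := (inferInstance : Nonempty (Sylow 2 X))
  have hs : Group.IsSolvable ↥((Cfsg.pCore 2 X).map π) := Group.isSolvable_of_comm fun a b => by
    obtain ⟨a, x, hx, rfl⟩ := a
    obtain ⟨b, y, hy, rfl⟩ := b
    refine Subtype.ext ?_
    show π x * π y = π y * π x
    rw [← map_mul, ← map_mul, Sections.sylow_comm S (hA S) (CfsgLib.Core.pCore_le_sylow S hx)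
      (CfsgLib.Core.pCore_le_sylow S hy)]
  have h := eq_bot_of_perfect_solvable (P := P.map π) (by rw [← map_commutator, hp])
    (Group.isSolvable_of_isSolvable_injective (f := inclusion hle) (inclusion_injective hle))
  rwa [Subgroup.map_eq_bot_iff, QuotientGroup.ker_mk'] at h

/-- `S ∩ K` is a Sylow subgroup of the component `K`. -/
theorem exists_sylow_component (S : Sylow 2 X) {K : Subgroup X} (hK : Cfsg.IsComponent K) :
    ∃ P : Sylow 2 ↥K, (P : Subgroup ↥K) = (S : Subgroup X).subgroupOf K := by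
  haveI : Fact (Nat.Prime 2) := ⟨Nat.prime_two⟩
  have hcomp : IsPGroup 2 (((S : Subgroup X).subgroupOf K)) :=
    S.2.comap_of_injective K.subtype K.subtype_injective
  obtain ⟨P, hP⟩ := hcomp.exists_le_sylow
  refine ⟨P, (hP.antisymm ?_).symm⟩
  have hi : ¬ 2 ∣ ((S : Subgroup X).subgroupOf K).index := by
    have := CfsgLib.LocalEvenB.not_dvd_relIndex_inf_of_subnormal S hK.1
    rwa [inf_relIndex_right] at this
  refine Subgroup.relIndex_eq_one.1 ?_
  obtain ⟨k, hk⟩ := (IsPGroup.iff_card.1 P.2)
  have h1 := (Subgroup.relIndex_dvd_card ((S : Subgroup X).subgroupOf K) (P : Subgroup ↥K))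
  rw [hk] at h1
  obtain ⟨j, -, hj⟩ := (Nat.dvd_prime_pow Nat.prime_two).1 h1
  rcases j with _ | j
  · simpa using hj
  · refine absurd (dvd_trans ⟨2 ^ j, ?_⟩ (Subgroup.relIndex_dvd_index_of_le hP)) hi
    rw [hj, pow_succ']

/-- A perfect subgroup of a component centralising the involutions of `S` in it is trivial. -/
theorem eq_bot_of_centralizes_omega (S : Sylow 2 X) {K P : Subgroup X} (hK : Cfsg.IsComponent K)
    (hPK : P ≤ K) (hp : ⁅P, P⁆ = P)
    (hc : ∀ v ∈ (S : Subgroup X) ⊓ K, v * v = 1 → ∀ x ∈ P, x * v = v * x) : P = ⊥ := by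
  haveI : Fact (Nat.Prime 2) := ⟨Nat.prime_two⟩
  by_cases ho : Odd (Nat.card P)
  · exact eq_bot_of_perfect_odd hp ho
  exfalso
  obtain ⟨Q, hQ⟩ := exists_sylow_component hA hO S hK
  let W : Set X := {v | v ∈ (S : Subgroup X) ⊓ K ∧ v * v = 1}
  set C := (centralizer W).subgroupOf K with hC
  have hQC : (Q : Subgroup ↥K) ≤ C := by
    rw [hQ]
    intro q hq
    exact mem_centralizer_iff.2 fun v hv => Sections.sylow_comm S (hA S) hv.1.1 hq
  have hPC : P.subgroupOf K ≤ C := fun x hx => mem_centralizer_iff.2 fun v hv => (hc v hv.1 hv.2 x hx).symm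
  obtain ⟨⟨t, htP⟩, ht⟩ := exists_prime_orderOf_dvd_card' (G := P) 2 (even_iff_two_dvd.1 (Nat.not_odd_iff_even.1 ho))
  have ht' : orderOf (⟨⟨t, hPK htP⟩, hPC (show (⟨t, hPK htP⟩ : K) ∈ P.subgroupOf K from htP)⟩ : C) = 2 := by
    simpa using ht
  obtain ⟨R, hR⟩ := (CfsgLib.Signalizer.isPGroup_zpowers_involution ht').exists_le_sylow
  obtain ⟨c, hcR⟩ := MulAction.exists_smul_eq C R (Q.subtype hQC)
  have h1 : c * ⟨⟨t, hPK htP⟩, hPC htP⟩ * c⁻¹ ∈ (Q.subtype hQC : Subgroup C) := by
    rw [← hcR, Sylow.coe_subgroup_smul]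
    exact ⟨_, hR (mem_zpowers _), rfl⟩
  have h2 : ((c : K) : X) * t * ((c : K) : X)⁻¹ ∈ (S : Subgroup X) := by
    have h3 : ((c : K) * ⟨t, hPK htP⟩ * (c : K)⁻¹ : K) ∈ (Q : Subgroup K) := h1
    rw [hQ] at h3
    exact h3
  set w := ((c : K) : X) * t * ((c : K) : X)⁻¹ with hw
  have hwW : w ∈ W := ⟨⟨h2, K.mul_mem (K.mul_mem (c : K).2 (hPK htP)) (K.inv_mem (c : K).2)⟩, by
    have h3 : t * t = 1 := congrArg Subtype.val (CfsgLib.Signalizer.involution_sq ht)
    rw [hw]
    calc _ = ((c : K) : X) * (t * t) * ((c : K) : X)⁻¹ := by group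
      _ = 1 := by rw [h3]; group⟩
  have hcw := mem_centralizer_iff.1 (c.2 : ((c : K) : X) ∈ centralizer W) w hwW
  have hwt : w = t := by
    have h4 : ((c : K) : X)⁻¹ * w * ((c : K) : X) = t := by rw [hw]; group
    rw [← h4, mul_assoc]
    exact (eq_inv_mul_of_mul_eq hcw.symm)
  obtain ⟨R', hR'⟩ := (CfsgLib.Signalizer.isPGroup_zpowers_involution ht).exists_le_sylow
  refine Three.not_central_of_perfect ?_ R' (CfsgLib.AbelianSolvCent.abSylow_subgroup hA P R') ht
    (hR' (mem_zpowers _)) (mem_center_iff.2 fun x => Subtype.ext ?_)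
  · exact map_injective P.subtype_injective (by
      rw [_root_.commutator_def, map_commutator, ← MonoidHom.range_eq_map, range_subtype, hp])
  · show (x : X) * t = t * x
    rw [← hwt]
    exact hc w hwW.1 hwW.2 x x.2

end residual

end CfsgLib.Walter.Pairs
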