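import Cfsg.Agent.Lib.Recog.Walter.Pairs.Defs
import Cfsg.Agent.Lib.Components.Char

/-!
Owner: helper10. Walter, pairs: conjugation by `N(S)`.

* `cjQuo`: `C(a)/O(C(a)) ≃* C(nan⁻¹)/O(C(nan⁻¹))`; `pre_cjQuo`: on preimages it is conjugation.
* `IsPair.conj`, `IsBlock.conj`: pairs and blocks are permuted by `N(S)`.
-/

set_option autoImplicit false
set_option linter.style.haveILetI false
set_option linter.unusedSectionVars false

namespace CfsgLib.Walter.Pairs

open Subgroup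
open CfsgLib.AbelianSolvCent (omegaS sylow_comm)

universe u

variable {G : Type u} [Group G] [Finite G]

/-- Conjugation `C(a) ≃* C(nan⁻¹)`. -/
noncomputable def cjCent (n a : G) :
    ↥(centralizer ({a} : Set G)) ≃* ↥(centralizer ({n * a * n⁻¹} : Set G)) :=
  ((centralizer ({a} : Set G)).equivMapOfInjective (MulAut.conj n).toMonoidHom (MulAut.conj n).injective).trans
    (MulEquiv.subgroupCongr (CfsgLib.InvCent.centralizer_conj n a).symm)

theorem coe_cjCent (n a : G) (x : ↥(centralizer ({a} : Set G))) :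
    ((cjCent n a x : ↥(centralizer ({n * a * n⁻¹} : Set G))) : G) = n * x * n⁻¹ := rfl

/-- The induced map on the quotients. -/
noncomputable def cjQuo (n a : G) : Quo a ≃* Quo (n * a * n⁻¹) :=
  QuotientGroup.congr _ _ (cjCent n a) (CfsgLib.Components.pPrimeCore_map_equiv 2 (cjCent n a))

theorem cjQuo_proj (n a : G) (x : ↥(centralizer ({a} : Set G))) :
    cjQuo n a (proj a x) = proj (n * a * n⁻¹) (cjCent n a x) :=
  QuotientGroup.congr_mk _ _ _ _ x

theorem pre_cjQuo (n a : G) (H : Subgroup (Quo a)) :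
    pre (n * a * n⁻¹) (H.map (cjQuo n a).toMonoidHom) = (pre a H).map (MulAut.conj n).toMonoidHom := by
  ext y
  constructor
  · intro hy
    obtain ⟨hyC, q, hq, hqy⟩ := mem_pre.1 hy
    obtain ⟨x, hx⟩ := (cjCent n a).surjective ⟨y, hyC⟩
    refine ⟨x, mem_pre.2 ⟨x.2, ?_⟩, (coe_cjCent n a x).symm.trans (congrArg Subtype.val hx)⟩
    have h : cjQuo n a (proj a x) = cjQuo n a q := by rw [cjQuo_proj, hx]; exact hqy.symm
    rw [show (⟨(x : G), x.2⟩ : ↥(centralizer ({a} : Set G))) = x from rfl, (cjQuo n a).injective h]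
    exact hq
  · rintro ⟨x, hx, rfl⟩
    obtain ⟨hxC, hxH⟩ := mem_pre.1 hx
    exact mem_pre.2 ⟨(cjCent n a ⟨x, hxC⟩).2, _, hxH, cjQuo_proj n a ⟨x, hxC⟩⟩

variable {S : Sylow 2 G} {hS : IsMulCommutative ↥(S : Subgroup G)}

theorem map_omega {n : G} (hn : n ∈ normalizer ((S : Subgroup G) : Set G)) :
    (omegaS S hS).map (MulAut.conj n).toMonoidHom = omegaS S hS := by
  refine Subgroup.eq_of_le_of_card_ge ?_ (le_of_eq ?_)
  · rintro _ ⟨x, hx, rfl⟩
    exact conj_mem_omega S hS hn hx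
  · exact Nat.card_congr (equivMapOfInjective _ _ (MulAut.conj n).injective).toEquiv

theorem map_centralizer_quo {n a : G} (K : Subgroup (Quo a)) :
    (centralizer (K : Set (Quo a))).map (cjQuo n a).toMonoidHom =
      centralizer ((K.map (cjQuo n a).toMonoidHom : Subgroup _) : Set (Quo (n * a * n⁻¹))) := by
  refine le_antisymm (by rw [coe_map]; exact map_centralizer_le_centralizer_image _ _) fun y hy => ?_
  obtain ⟨x, rfl⟩ := (cjQuo n a).surjective y
  refine ⟨x, mem_centralizer_iff.2 fun k hk => (cjQuo n a).injective ?_, rfl⟩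
  rw [map_mul, map_mul]
  exact mem_centralizer_iff.1 hy _ ⟨k, hk, rfl⟩

theorem IsPair.conj {n : G} (hn : n ∈ normalizer ((S : Subgroup G) : Set G)) {V C : Subgroup G}
    (h : IsPair S hS V C) :
    IsPair S hS (V.map (MulAut.conj n).toMonoidHom) (C.map (MulAut.conj n).toMonoidHom) := by
  obtain ⟨a, ha, ha1, K, hK, rfl, rfl⟩ := h
  refine ⟨n * a * n⁻¹, conj_mem_omega S hS hn ha, fun e => ha1 (conj_eq_one_iff.1 e),
    K.map (cjQuo n a).toMonoidHom, CfsgLib.Components.isComponent_map_equiv _ hK, ?_, ?_⟩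
  · rw [Vp, Vp, Subgroup.map_inf _ _ _ (MulAut.conj n).injective, map_omega hn, pre_cjQuo]
  · rw [Cp, Cp, Subgroup.map_inf _ _ _ (MulAut.conj n).injective, map_omega hn, ← map_centralizer_quo, pre_cjQuo]

omit [Finite G] in
theorem map_conj_inv (n : G) (H : Subgroup G) :
    (H.map (MulAut.conj n⁻¹).toMonoidHom).map (MulAut.conj n).toMonoidHom = H := by
  ext x
  constructor
  · rintro ⟨_, ⟨y, hy, rfl⟩, rfl⟩
    simpa [mul_assoc] using hy
  · exact fun hx => ⟨_, ⟨x, hx, rfl⟩, by simp [mul_assoc]⟩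

theorem IsBlock.conj {n : G} (hn : n ∈ normalizer ((S : Subgroup G) : Set G)) {V C : Subgroup G}
    (h : IsBlock S hS V C) :
    IsBlock S hS (V.map (MulAut.conj n).toMonoidHom) (C.map (MulAut.conj n).toMonoidHom) := by
  refine ⟨h.1.conj hn, fun V' C' h' hV hC => ?_⟩
  have hle : ∀ {A B : Subgroup G}, A.map (MulAut.conj n).toMonoidHom ≤ B →
      A ≤ B.map (MulAut.conj n⁻¹).toMonoidHom := fun {A B} hAB x hx =>
    ⟨n * x * n⁻¹, hAB ⟨x, hx, rfl⟩, by simp [mul_assoc]⟩
  have hge : ∀ {A B : Subgroup G}, B ≤ A.map (MulAut.conj n).toMonoidHom →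
      B.map (MulAut.conj n⁻¹).toMonoidHom ≤ A := fun {A B} hAB => by
    rintro _ ⟨x, hx, rfl⟩
    obtain ⟨y, hy, rfl⟩ := hAB hx
    simpa [mul_assoc] using hy
  obtain ⟨e1, e2⟩ := h.2 _ _ (h'.conj (inv_mem hn)) (hle hV) (hge hC)
  exact ⟨by rw [← e1, map_conj_inv], by rw [← e2, map_conj_inv]⟩

end CfsgLib.Walter.Pairs
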