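import Cfsg.Agent.Lib.Recog.Walter.Pairs.Point

/-!
Owner: helper10. Walter, pairs: pairs, blocks, the statement that a pair is seen again.

* `IsPair V C`: the pair of some component of some `C(a) / O(C(a))`, `a ∈ Ω₁(S)#`.
* `IsBlock V C`: a maximal pair for `(V, C) ≤ (V', C')`: `V ≤ V'` and `C' ≤ C`.
* `Seen`: at an involution `u` of `C` there is a pair at least as large.
* `exists_block`: every pair lies below a block.
-/

set_option autoImplicit false
set_option linter.style.haveILetI false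
set_option linter.unusedSectionVars false

namespace CfsgLib.Walter.Pairs

open Subgroup
open CfsgLib.AbelianSolvCent (omegaS sylow_comm)

universe u

variable {G : Type u} [Group G] [Finite G] (S : Sylow 2 G) (hS : IsMulCommutative ↥(S : Subgroup G))

/-- A pair of a component. -/
def IsPair (V C : Subgroup G) : Prop :=
  ∃ a ∈ omegaS S hS, a ≠ 1 ∧ ∃ K : Subgroup (Quo a),
    Cfsg.IsComponent K ∧ V = Vp S hS a K ∧ C = Cp S hS a K

/-- A maximal pair. -/
def IsBlock (V C : Subgroup G) : Prop :=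
  IsPair S hS V C ∧ ∀ V' C', IsPair S hS V' C' → V ≤ V' → C' ≤ C → V' = V ∧ C' = C

/-- Pairs are seen again at the involutions of their second members. -/
def Seen : Prop :=
  ∀ a ∈ omegaS S hS, a ≠ 1 → ∀ K : Subgroup (Quo a), Cfsg.IsComponent K → ∀ u ∈ Cp S hS a K, u ≠ 1 →
    ∃ K' : Subgroup (Quo u), Cfsg.IsComponent K' ∧ Vp S hS a K ≤ Vp S hS u K' ∧
      Cp S hS u K' ≤ Cp S hS a K

variable {S hS}

theorem IsPair.sup_eq {V C : Subgroup G} (h : IsPair S hS V C) : V ⊔ C = omegaS S hS := by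
  obtain ⟨a, ha, -, K, hK, rfl, rfl⟩ := h
  exact Pairs.sup_eq S hS ha hK

theorem IsPair.disj {V C : Subgroup G} (h : IsPair S hS V C) : V ⊓ C = ⊥ := by
  obtain ⟨a, ha, -, K, hK, rfl, rfl⟩ := h
  exact Pairs.disj S hS ha hK

theorem IsPair.four_le {V C : Subgroup G} (h : IsPair S hS V C) : 4 ≤ Nat.card V := by
  obtain ⟨a, ha, -, K, hK, rfl, rfl⟩ := h
  exact Pairs.four_le S hS ha hK

theorem IsPair.C_ne_bot {V C : Subgroup G} (h : IsPair S hS V C) : C ≠ ⊥ := by
  obtain ⟨a, ha, ha1, K, -, rfl, rfl⟩ := h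
  exact fun e => ha1 (mem_bot.1 (e ▸ mem_Cp_self S hS ha K))

theorem IsPair.V_le {V C : Subgroup G} (h : IsPair S hS V C) : V ≤ omegaS S hS := h.sup_eq ▸ le_sup_left

theorem IsPair.C_le {V C : Subgroup G} (h : IsPair S hS V C) : C ≤ omegaS S hS := h.sup_eq ▸ le_sup_right

theorem IsPair.exists_mul {V C : Subgroup G} (h : IsPair S hS V C) {x : G} (hx : x ∈ omegaS S hS) :
    ∃ v ∈ V, ∃ c ∈ C, x = v * c :=
  (CfsgLib.Core.mem_sup_iff_mul (H := V) (N := C) fun v hv =>
    centralizer_le_normalizer _ (mem_centralizer_iff.2 fun c hc =>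
      sylow_comm S hS (h.C_le hc).1 (h.V_le hv).1)).1 (by rw [h.sup_eq]; exact hx)

theorem IsPair.card_mul {V C : Subgroup G} (h : IsPair S hS V C) :
    Nat.card V * Nat.card C = Nat.card (omegaS S hS) := by
  rw [← Nat.card_prod]
  refine Nat.card_congr (Equiv.ofBijective
    (fun p => (⟨(p.1 : G) * (p.2 : G), mul_mem (h.V_le p.1.2) (h.C_le p.2.2)⟩ : omegaS S hS)) ⟨?_, ?_⟩)
  · exact fun p q e => Subgroup.mul_injective_of_disjoint (disjoint_iff.2 h.disj) (congrArg Subtype.val e)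
  · rintro ⟨x, hx⟩
    obtain ⟨v, hv, c, hc, rfl⟩ := h.exists_mul hx
    exact ⟨(⟨v, hv⟩, ⟨c, hc⟩), rfl⟩

/-- A pair above another one with first member no larger is equal to it. -/
theorem eq_of_le_of_card {V C V' C' : Subgroup G} (h : IsPair S hS V C) (h' : IsPair S hS V' C')
    (hV : V ≤ V') (hC : C' ≤ C) (hcard : Nat.card V' ≤ Nat.card V) : V' = V ∧ C' = C := by
  obtain rfl := Subgroup.eq_of_le_of_card_ge hV hcard
  refine ⟨rfl, Subgroup.eq_of_le_of_card_ge hC ?_⟩
  have := h.card_mul.trans h'.card_mul.symm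
  exact (Nat.eq_of_mul_eq_mul_left Nat.card_pos this).le

/-- Every pair lies below a block. -/
theorem exists_block {V C : Subgroup G} (h : IsPair S hS V C) :
    ∃ V' C', IsBlock S hS V' C' ∧ V ≤ V' ∧ C' ≤ C := by
  haveI : Finite (Subgroup G) := Finite.of_injective (fun H : Subgroup G => (H : Set G)) SetLike.coe_injective
  obtain ⟨p, ⟨hp, hV, hC⟩, hmax⟩ := (Set.toFinite {p : Subgroup G × Subgroup G |
      IsPair S hS p.1 p.2 ∧ V ≤ p.1 ∧ p.2 ≤ C}).exists_maximalFor (fun p => Nat.card p.1) _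
    ⟨(V, C), h, le_rfl, le_rfl⟩
  refine ⟨p.1, p.2, ⟨hp, fun V' C' h' hV' hC' => eq_of_le_of_card hp h' hV' hC' ?_⟩, hV, hC⟩
  exact hmax (j := (V', C')) ⟨h', hV.trans hV', hC'.trans hC⟩ (card_le_of_le hV')

end CfsgLib.Walter.Pairs
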