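import Cfsg.Agent.Lib.Recog.Walter.Pairs.Conj
import Cfsg.Agent.Lib.Recog.Walter.Blocks
import Cfsg.Agent.Lib.Recog.Walter.Balanced
import Cfsg.Agent.Lib.Recog.Walter.PairsSeen

/-!
Owner: helper10. Walter, pairs: the frame of a simple group.

* `secWalter_centralizer`: centralizers of involutions have sections of Walter type.
* `seen`: pairs are seen again (from `Seen.exists_seen`).
* `block_at`: a block is the pair of a component at every involution of its second member.
* `linked`, `orth`: two blocks are equal or orthogonal.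
* `Blk`, `frame`: the frame of the blocks; `cover`: every pair lies below a block.
-/

set_option autoImplicit false
set_option linter.style.haveILetI false
set_option linter.unusedSectionVars false

open scoped Pointwise

namespace CfsgLib.Walter.Pairs

open Subgroup
open CfsgLib.AbelianSolvCent (AbSylow omegaS orderOf_omega sylow_comm)
open CfsgLib.Walter.Sections (SecWalter)

universe u

variable {G : Type u} [Group G] [Finite G] [IsSimpleGroup G]
  {S : Sylow 2 G} {hS : IsMulCommutative ↥(S : Subgroup G)}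

theorem centralizer_singleton_ne_top (hG : ¬ IsMulCommutative G) {a : G} (ha : a ≠ 1) :
    centralizer ({a} : Set G) ≠ ⊤ := fun e => by
  have h : a ∈ center G := mem_center_iff.2 fun g => mem_centralizer_singleton_iff.1 (e ▸ mem_top g)
  rw [center_eq_bot hG, mem_bot] at h
  exact ha h

include hS in
/-- The sections of an involution centralizer are of Walter type. -/
theorem secWalter_centralizer (hG : ¬ IsMulCommutative G) (hsm : Smaller G) {a : G} (ha : a ≠ 1) :
    SecWalter ↥(centralizer ({a} : Set G)) :=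
  Sections.secWalter_of_smaller hsm
    (CfsgLib.AbelianSolvCent.abSylow_subgroup (CfsgLib.AbelianSolvCent.abSylow_of_one S hS) _)
    (CfsgLib.Components.card_lt_of_ne_top (centralizer_singleton_ne_top hG ha))

include hS in
theorem secWalter_quo (hG : ¬ IsMulCommutative G) (hsm : Smaller G) {a : G} (ha : a ≠ 1) : SecWalter (Quo a) :=
  Sections.secWalter_of_surjective (secWalter_centralizer (S := S) (hS := hS) hG hsm ha) _
    (QuotientGroup.mk'_surjective _)

theorem local_omega (hG : ¬ IsMulCommutative G) (hsm : Smaller G) : SmallU.Local S (omegaS S hS) where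
  ab := CfsgLib.AbelianSolvCent.abSylow_of_one S hS
  elem := ⟨isComm_omega S hS, fun x hx => by rw [pow_two]; exact hx.2⟩
  le_sylow := fun _ hx => hx.1
  omega := fun _ hs h => ⟨hs, h⟩
  sec := fun _ _ ha => secWalter_centralizer (S := S) (hS := hS) hG hsm ha

/-- Pairs are seen again. -/
theorem seen (hG : ¬ IsMulCommutative G) (hsm : Smaller G) : Seen S hS := by
  intro a ha _ K hK u hu _
  obtain ⟨K', hK', hV, hC, -⟩ :=
    CfsgLib.Walter.Seen.exists_seen (local_omega (S := S) (hS := hS) hG hsm) ha hK hu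
  exact ⟨K', hK', hV, hC⟩

/-- A block is the pair of a component at each involution of its second member. -/
theorem block_at (hG : ¬ IsMulCommutative G) (hsm : Smaller G) {V C : Subgroup G} (h : IsBlock S hS V C) {u : G}
    (hu : u ∈ C) (hu1 : u ≠ 1) :
    ∃ K : Subgroup (Quo u), Cfsg.IsComponent K ∧ V = Vp S hS u K ∧ C = Cp S hS u K := by
  obtain ⟨a, ha, ha1, K, hK, hV, hC⟩ := h.1
  have hu' : u ∈ Cp S hS a K := hC ▸ hu
  obtain ⟨K', hK', hV', hC'⟩ := seen hG hsm a ha ha1 K hK u hu' hu1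
  obtain ⟨e1, e2⟩ := h.2 _ _ ⟨u, Cp_le S hS a K hu', hu1, K', hK', rfl, rfl⟩ (hV.le.trans hV') (hC'.trans hC.ge)
  exact ⟨K', hK', e1.symm, e2.symm⟩

/-- Two blocks whose second members meet are equal or orthogonal. -/
theorem linked (hG : ¬ IsMulCommutative G) (hsm : Smaller G) {V C V' C' : Subgroup G} (h : IsBlock S hS V C)
    (h' : IsBlock S hS V' C') (hm : C ⊓ C' ≠ ⊥) : V' = V ∧ C' = C ∨ V' ≤ C ∧ V ≤ C' := by
  obtain ⟨u, hu, hu1⟩ := (C ⊓ C').bot_or_exists_ne_one.resolve_left hm
  have huE : u ∈ omegaS S hS := h.1.C_le hu.1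
  obtain ⟨K, hK, rfl, rfl⟩ := block_at hG hsm h hu.1 hu1
  obtain ⟨K', hK', rfl, rfl⟩ := block_at hG hsm h' hu.2 hu1
  rcases eq_or_ne K' K with rfl | hne
  · exact Or.inl ⟨rfl, rfl⟩
  have key : ∀ {K₁ K₂ : Subgroup (Quo u)}, Cfsg.IsComponent K₁ → Cfsg.IsComponent K₂ → K₁ ≠ K₂ →
      Vp S hS u K₁ ≤ Cp S hS u K₂ := by
    intro K₁ K₂ h₁ h₂ hne x hx
    obtain ⟨hxE, hxK⟩ := (mem_Vp S hS huE).1 hx
    exact (mem_Cp S hS huE).2 ⟨hxE,
      commutator_eq_bot_iff_le_centralizer.1 (CfsgLib.Components.components_commute h₁ h₂ hne) hxK⟩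
  exact Or.inr ⟨key hK' hK hne, key hK hK' hne.symm⟩

/-- `N(S)` normalises `Ω₁(S)`. -/
theorem normalizer_le_normalizer_omega :
    normalizer ((S : Subgroup G) : Set G) ≤ normalizer (omegaS S hS : Set G) := fun _ hn =>
  mem_normalizer_iff_map_conj_eq.2 (map_omega hn)

/-- The action of `N(S)` on `Ω₁(S)`. -/
def act : ↥(normalizer ((S : Subgroup G) : Set G)) →* MulAut ↥(omegaS S hS) :=
  (omegaS S hS).normalizerMonoidHom.comp (inclusion normalizer_le_normalizer_omega)

theorem coe_act (n : ↥(normalizer ((S : Subgroup G) : Set G))) (x : ↥(omegaS S hS)) :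
    ((act (hS := hS) n x : ↥(omegaS S hS)) : G) = n * x * (n : G)⁻¹ := rfl

/-- `N(S)` induces a group of odd order on `Ω₁(S)`. -/
theorem odd_act : Odd (Nat.card ↥(act (S := S) (hS := hS)).range) := by
  haveI : Fact (Nat.Prime 2) := ⟨Nat.prime_two⟩
  rw [← index_ker]
  refine (Nat.not_even_iff_odd.1 fun he => (S.subtype le_normalizer).not_dvd_index
    (even_iff_two_dvd.1 he)).of_dvd_nat (Subgroup.index_dvd_of_le fun s hs => ?_)
  refine MulEquiv.ext fun x => Subtype.ext ?_
  have h1 : (s : G) * x = x * s := sylow_comm S hS hs x.2.1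
  rw [coe_act, h1, mul_inv_cancel_right]
  rfl

theorem map_subtype_smul (n : ↥(normalizer ((S : Subgroup G) : Set G))) (H : Subgroup ↥(omegaS S hS)) :
    (((⟨act (hS := hS) n, n, rfl⟩ : ↥(act (S := S) (hS := hS)).range) • H : Subgroup ↥(omegaS S hS))).map
        (omegaS S hS).subtype =
      (H.map (omegaS S hS).subtype).map (MulAut.conj (n : G)).toMonoidHom := by
  ext y
  constructor
  · rintro ⟨x, hx, rfl⟩
    obtain ⟨z, hz, rfl⟩ := (Subgroup.mem_smul_pointwise_iff_exists _ _ _).mp hx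
    exact ⟨z, ⟨z, hz, rfl⟩, rfl⟩
  · rintro ⟨_, ⟨z, hz, rfl⟩, rfl⟩
    exact ⟨_, Subgroup.smul_mem_pointwise_smul z _ H hz, rfl⟩

/-- No nontrivial element of `Ω₁(S)` is fixed by `N(S)`. -/
theorem not_fixed_omega (hG : ¬ IsMulCommutative G) {x : G} (hx : x ∈ omegaS S hS)
    (h : ∀ n ∈ normalizer ((S : Subgroup G) : Set G), n * x * n⁻¹ = x) : x = 1 := by
  by_contra hx1
  exact not_fixed hG S hS (orderOf_omega S hS hx hx1) hx.1 fun n hn => mul_inv_eq_iff_eq_mul.1 (h n hn)

/-- **Blocks are equal or orthogonal.** -/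
theorem orth (hG : ¬ IsMulCommutative G) (hsm : Smaller G) (h16 : 16 ≤ Nat.card (omegaS S hS))
    {V C V' C' : Subgroup G} (h : IsBlock S hS V C) (h' : IsBlock S hS V' C') :
    V' = V ∧ C' = C ∨ V' ≤ C ∧ V ≤ C' := by
  classical
  set E := omegaS S hS with hE
  haveI := isComm_omega S hS
  letI : CommGroup ↥E := { (inferInstance : Group ↥E) with mul_comm := mul_comm' }
  set A := (act (S := S) (hS := hS)).range
  let P : Subgroup ↥E → Subgroup ↥E → Prop := fun V C => IsBlock S hS (V.map E.subtype) (C.map E.subtype)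
  have hsub : ∀ {H : Subgroup G}, H ≤ E → (H.subgroupOf E).map E.subtype = H := fun hH =>
    map_subgroupOf_eq_of_le hH
  have hle : ∀ {H K : Subgroup ↥E}, H.map E.subtype ≤ K.map E.subtype → H ≤ K := fun hHK =>
    (map_le_map_iff_of_injective E.subtype_injective).1 hHK
  have hD : Blocks.Data (A := ↥A) (M := ↥E) P :=
    { inv := by
        rintro ⟨_, n, rfl⟩ V C hP
        exact (congrArg₂ (IsBlock S hS) (map_subtype_smul n V) (map_subtype_smul n C)).mpr (hP.conj n.2)
      compl := fun V C hP => IsCompl.of_eq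
        (map_injective E.subtype_injective (by
          rw [Subgroup.map_inf _ _ _ E.subtype_injective, hP.1.disj, Subgroup.map_bot]))
        (map_injective E.subtype_injective (by
          rw [Subgroup.map_sup, hP.1.sup_eq, ← MonoidHom.range_eq_map, range_subtype]))
      four := fun V C hP => by
        have := hP.1.four_le
        rwa [card_map_of_injective E.subtype_injective] at this
      C_ne := fun V C hP e => hP.1.C_ne_bot (by rw [e, Subgroup.map_bot])
      trans := fun V C hP v hv w hw hv1 hw1 => by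
        obtain ⟨a, ha, ha1, K, hK, hV, hC⟩ := hP.1
        obtain ⟨n, ⟨-, hn⟩, hvw, hfix⟩ := Pairs.trans S hS ha hK (secWalter_quo (S := S) (hS := hS) hG hsm ha1)
          (v := (v : G)) (w := (w : G)) (hV ▸ ⟨v, hv, rfl⟩) (hV ▸ ⟨w, hw, rfl⟩) (fun e => hv1 (Subtype.ext e))
          (fun e => hw1 (Subtype.ext e))
        exact ⟨⟨act (hS := hS) ⟨n, hn⟩, ⟨n, hn⟩, rfl⟩, Subtype.ext hvw,
          fun c hc => Subtype.ext (hfix c (hC ▸ ⟨c, hc, rfl⟩))⟩
      linked := fun V C V' C' hP hP' hm => by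
        rcases linked hG hsm hP hP' (fun e => hm (map_injective E.subtype_injective (by
          rw [Subgroup.map_inf _ _ _ E.subtype_injective, e, Subgroup.map_bot]))) with ⟨e1, e2⟩ | ⟨e1, e2⟩
        · exact Or.inl ⟨map_injective E.subtype_injective e1, map_injective E.subtype_injective e2⟩
        · exact Or.inr ⟨hle e1, hle e2⟩ }
  have hP : P (V.subgroupOf E) (C.subgroupOf E) := by
    show IsBlock S hS _ _
    rwa [hsub h.1.V_le, hsub h.1.C_le]
  have hP' : P (V'.subgroupOf E) (C'.subgroupOf E) := by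
    show IsBlock S hS _ _
    rwa [hsub h'.1.V_le, hsub h'.1.C_le]
  rcases hD.orth (odd_act (S := S) (hS := hS)) (fun x => Subtype.ext x.2.2) h16 hP hP' with ⟨e1, e2⟩ | ⟨e1, e2⟩
  · left
    rw [← hsub h.1.V_le, ← hsub h.1.C_le, ← hsub h'.1.V_le, ← hsub h'.1.C_le, e1, e2]
    exact ⟨rfl, rfl⟩
  · right
    rw [← hsub h.1.V_le, ← hsub h.1.C_le, ← hsub h'.1.V_le, ← hsub h'.1.C_le]
    exact ⟨map_mono e1, map_mono e2⟩

variable (S hS) in
/-- The blocks. -/
def Blk : Type u := {p : Subgroup G × Subgroup G // IsBlock S hS p.1 p.2}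

/-- The first member. -/
def Blk.V (i : Blk S hS) : Subgroup G := i.1.1

/-- The second member. -/
def Blk.C (i : Blk S hS) : Subgroup G := i.1.2

/-- The second member of a block has at least four elements. -/
theorem four_le_C (hG : ¬ IsMulCommutative G) (hsm : Smaller G) (h16 : 16 ≤ Nat.card (omegaS S hS))
    {V C : Subgroup G} (h : IsBlock S hS V C) : 4 ≤ Nat.card C := by
  classical
  by_contra hlt
  push Not at hlt
  obtain ⟨c, hc, hc1⟩ := C.bot_or_exists_ne_one.resolve_left h.1.C_ne_bot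
  have hord := orderOf_omega S hS (h.1.C_le hc) hc1
  refine hc1 (not_fixed_omega (hS := hS) hG (h.1.C_le hc) fun n hn => ?_)
  rcases orth hG hsm h16 h (h.conj hn) with ⟨-, e⟩ | ⟨e, -⟩
  · -- the second member has order two
    have hnc : n * c * n⁻¹ ∈ C := e ▸ (⟨c, hc, rfl⟩ : n * c * n⁻¹ ∈ C.map (MulAut.conj n).toMonoidHom)
    by_contra hne
    have hcc : c * c = 1 := (h.1.C_le hc).2
    have hne1 : n * c * n⁻¹ ≠ 1 := fun e' => hc1 (conj_eq_one_iff.1 e')
    letI := Fintype.ofFinite G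
    have hsub : ({1, c, n * c * n⁻¹, c * (n * c * n⁻¹)} : Finset G) ⊆ Finset.univ.filter (· ∈ C) := by
      intro t ht
      simp only [Finset.mem_insert, Finset.mem_singleton] at ht
      simp only [Finset.mem_filter, Finset.mem_univ, true_and]
      rcases ht with rfl | rfl | rfl | rfl
      exacts [one_mem _, hc, hnc, mul_mem hc hnc]
    have h1 : c ≠ c * (n * c * n⁻¹) := fun e' => hne1 (mul_left_cancel (e'.symm.trans (mul_one c).symm))
    have h2 : n * c * n⁻¹ ≠ c * (n * c * n⁻¹) := fun e' =>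
      hc1 (mul_right_cancel (e'.symm.trans (one_mul (n * c * n⁻¹)).symm))
    have h3 : c * (n * c * n⁻¹) ≠ 1 := fun e' => hne (by
      rw [← one_mul (n * c * n⁻¹), ← hcc, mul_assoc, e', mul_one])
    have hcard : ({1, c, n * c * n⁻¹, c * (n * c * n⁻¹)} : Finset G).card = 4 := by
      simp [hc1.symm, hne1.symm, h3.symm, Ne.symm hne, h1, h2]
    have hmain := Finset.card_le_card hsub
    rw [hcard, ← Fintype.card_subtype, ← Nat.card_eq_fintype_card] at hmain
    exact absurd hmain (not_le.2 hlt)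
  · exfalso
    have h1 := card_le_of_le e
    rw [Nat.card_congr (equivMapOfInjective V _ (MulAut.conj n).injective).toEquiv.symm] at h1
    have := h.1.four_le
    omega

/-- **The frame of the blocks.** -/
theorem frame (hG : ¬ IsMulCommutative G) (hsm : Smaller G) (h16 : 16 ≤ Nat.card (omegaS S hS)) :
    Frame S hS (Blk.V (S := S) (hS := hS)) (Blk.C (S := S) (hS := hS)) where
  conj := fun _ hn i => ⟨⟨(_, _), i.2.conj hn⟩, rfl, rfl⟩
  sup_eq := fun i => i.2.1.sup_eq
  disj := fun i => i.2.1.disj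
  orth := fun i j hij => ((orth hG hsm h16 j.2 i.2).resolve_left fun e =>
    hij (Subtype.ext (Prod.ext e.1 e.2))).1
  four_le_V := fun i => i.2.1.four_le
  four_le_C := fun i => four_le_C hG hsm h16 i.2

/-- **Every pair lies below a block.** -/
theorem cover {a : G} (ha : a ∈ omegaS S hS) (ha1 : a ≠ 1) {K : Subgroup (Quo a)} (hK : Cfsg.IsComponent K) :
    ∃ i : Blk S hS, Vp S hS a K ≤ i.V ∧ i.C ≤ Cp S hS a K := by
  obtain ⟨V, C, h, hV, hC⟩ := exists_block (⟨a, ha, ha1, K, hK, rfl, rfl⟩ : IsPair S hS _ _)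
  exact ⟨⟨(V, C), h⟩, hV, hC⟩

/-- Every component lies below a block, in the form of the small case. -/
theorem cover_cK {a : G} (ha : a ∈ omegaS S hS) (ha1 : a ≠ 1) {K : Subgroup (SmallU.Quo a)}
    (hK : Cfsg.IsComponent K) : ∃ i : Blk S hS, i.C ≤ SmallU.cK (omegaS S hS) a K :=
  (cover ha ha1 hK).imp fun _ h => h.2

/-- The same, in the form of the type transfer. -/
theorem cover_vK : ∀ a ∈ omegaS S hS, a ≠ 1 → ∀ K : Subgroup (SmallU.Quo a), Cfsg.IsComponent K →
    ∃ i : Blk S hS, i.C ≤ SmallU.cK (omegaS S hS) a K ∧ CfsgLib.Walter.Seen.vK (omegaS S hS) a K ≤ i.V :=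
  fun _ ha ha1 _ hK => (cover ha ha1 hK).imp fun _ h => ⟨h.2, h.1⟩

/-- A block is the pair of a component at each involution of its second member, in the form of the small case. -/
theorem comp (hG : ¬ IsMulCommutative G) (hsm : Smaller G) :
    ∀ i : Blk S hS, ∀ c ∈ i.C, c ≠ 1 → ∃ K : Subgroup (SmallU.Quo c), Cfsg.IsComponent K ∧
      (∀ v : ↥(centralizer ({c} : Set G)), (v : G) ∈ i.V → SmallU.proj c v ∈ K) ∧
      ∀ w : ↥(centralizer ({c} : Set G)), (w : G) ∈ i.C → ∀ k ∈ K,
        SmallU.proj c w * k = k * SmallU.proj c w := by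
  intro i c hc hc1
  have hcE : c ∈ omegaS S hS := i.2.1.C_le hc
  obtain ⟨K, hK, hV, hC⟩ := block_at hG hsm i.2 hc hc1
  refine ⟨K, hK, fun v hv => ?_, fun w hw k hk => ?_⟩
  · exact ((mem_Vp S hS hcE).1 (hV ▸ hv)).2
  · exact (mem_centralizer_iff.1 ((mem_Cp S hS hcE).1 (hC ▸ hw)).2 k hk).symm

end CfsgLib.Walter.Pairs
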