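import Cfsg.Agent.Lib.Recog.Walter.Pairs.Basic
import Cfsg.Agent.Lib.Recog.Walter.Contains
import Cfsg.Agent.Lib.PLocal.PConstrained
import Cfsg.Agent.Lib.InvCentTwoNilp.Basic

/-!
Owner: helper10. Walter, pairs: the pair of a component of `C(a) / O(C(a))`.

* `Quo a`, `proj`, `pre a H`: the quotient and preimages in `G`.
* `Vp a K = Ω₁(S) ∩ pre K`, `Cp a K = Ω₁(S) ∩ pre C(K)`: the pair of the component `K`.
* `sup_eq`, `disj`, `four_le`, `mem_Cp_self`, `trans`: a pair is a decomposition with a transitive stabiliser.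
* `exists_lift`: a component is covered by the residual of the centraliser of a part of `Cp`.
-/

set_option autoImplicit false
set_option linter.style.haveILetI false
set_option linter.unusedSectionVars false

namespace CfsgLib.Walter.Pairs

open Subgroup
open CfsgLib.AbelianSolvCent (AbSylow omegaS orderOf_omega sylow_comm sylow_le_centralizer)
open CfsgLib.InvCent (theta)
open CfsgLib.Walter.Sections (SecWalter)

universe u

variable {G : Type u} [Group G]

/-- `C(a) / O(C(a))`. -/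
abbrev Quo (a : G) : Type u := ↥(centralizer ({a} : Set G)) ⧸ Cfsg.oddCore ↥(centralizer ({a} : Set G))

/-- The projection. -/
abbrev proj (a : G) : ↥(centralizer ({a} : Set G)) →* Quo a :=
  QuotientGroup.mk' (Cfsg.oddCore ↥(centralizer ({a} : Set G)))

/-- The preimage in `G`. -/
def pre (a : G) (H : Subgroup (Quo a)) : Subgroup G :=
  (H.comap (proj a)).map (centralizer ({a} : Set G)).subtype

theorem mem_pre {a : G} {H : Subgroup (Quo a)} {x : G} :
    x ∈ pre a H ↔ ∃ h : x ∈ centralizer ({a} : Set G), proj a ⟨x, h⟩ ∈ H :=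
  ⟨by rintro ⟨y, hy, rfl⟩; exact ⟨y.2, hy⟩, fun ⟨h, hx⟩ => ⟨⟨x, h⟩, hx, rfl⟩⟩

theorem pre_le (a : G) (H : Subgroup (Quo a)) : pre a H ≤ centralizer ({a} : Set G) := map_subtype_le _

theorem pre_bot (a : G) : pre a ⊥ = theta a := by
  rw [pre, theta, MonoidHom.comap_bot, QuotientGroup.ker_mk']

variable [Finite G] (S : Sylow 2 G) (hS : IsMulCommutative ↥(S : Subgroup G))

/-- The first member of the pair. -/
def Vp (a : G) (K : Subgroup (Quo a)) : Subgroup G := omegaS S hS ⊓ pre a K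

/-- The second member of the pair. -/
def Cp (a : G) (K : Subgroup (Quo a)) : Subgroup G := omegaS S hS ⊓ pre a (centralizer (K : Set (Quo a)))

theorem mem_centralizer_of_omega {a x : G} (ha : a ∈ omegaS S hS) (hx : x ∈ (S : Subgroup G)) :
    x ∈ centralizer ({a} : Set G) :=
  sylow_le_centralizer S hS ha.1 hx

theorem mem_Vp {a x : G} (ha : a ∈ omegaS S hS) {K : Subgroup (Quo a)} :
    x ∈ Vp S hS a K ↔ ∃ h : x ∈ omegaS S hS, proj a ⟨x, mem_centralizer_of_omega S hS ha h.1⟩ ∈ K :=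
  ⟨fun h => ⟨h.1, (mem_pre.1 h.2).2⟩, fun ⟨h, hx⟩ => ⟨h, mem_pre.2 ⟨_, hx⟩⟩⟩

theorem mem_Cp {a x : G} (ha : a ∈ omegaS S hS) {K : Subgroup (Quo a)} :
    x ∈ Cp S hS a K ↔ ∃ h : x ∈ omegaS S hS,
      proj a ⟨x, mem_centralizer_of_omega S hS ha h.1⟩ ∈ centralizer (K : Set (Quo a)) :=
  ⟨fun h => ⟨h.1, (mem_pre.1 h.2).2⟩, fun ⟨h, hx⟩ => ⟨h, mem_pre.2 ⟨_, hx⟩⟩⟩

theorem Vp_le (a : G) (K : Subgroup (Quo a)) : Vp S hS a K ≤ omegaS S hS := inf_le_left

theorem Cp_le (a : G) (K : Subgroup (Quo a)) : Cp S hS a K ≤ omegaS S hS := inf_le_left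

variable {a : G} (ha : a ∈ omegaS S hS)
include ha

theorem sylow_le : (S : Subgroup G) ≤ centralizer ({a} : Set G) := fun _ hx => mem_centralizer_of_omega S hS ha hx

/-- The image of `S` in `C(a) / O(C(a))`. -/
noncomputable def quoSylow : Sylow 2 (Quo a) :=
  haveI : Fact (Nat.Prime 2) := ⟨Nat.prime_two⟩
  (S.subtype (sylow_le S hS ha)).mapSurjective (f := proj a) (QuotientGroup.mk'_surjective _)

theorem coe_quoSylow : (quoSylow S hS ha : Subgroup (Quo a)) =
    ((S : Subgroup G).subgroupOf (centralizer ({a} : Set G))).map (proj a) := by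
  haveI : Fact (Nat.Prime 2) := ⟨Nat.prime_two⟩
  rw [quoSylow, Sylow.coe_mapSurjective]
  rfl

theorem exists_of_mem_quoSylow {q : Quo a} (hq : q ∈ (quoSylow S hS ha : Subgroup (Quo a))) :
    ∃ s, ∃ hs : s ∈ (S : Subgroup G), proj a ⟨s, mem_centralizer_of_omega S hS ha hs⟩ = q := by
  rw [coe_quoSylow] at hq
  obtain ⟨y, hy, rfl⟩ := hq
  exact ⟨y, hy, rfl⟩

theorem mem_quoSylow {s : G} (hs : s ∈ (S : Subgroup G)) :
    proj a ⟨s, mem_centralizer_of_omega S hS ha hs⟩ ∈ (quoSylow S hS ha : Subgroup (Quo a)) := by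
  rw [coe_quoSylow]; exact ⟨⟨s, _⟩, hs, rfl⟩

omit ha in
include hS in
/-- An element of `S` in the core is trivial. -/
theorem eq_one_of_proj_eq_one {s : G} (hs : s ∈ (S : Subgroup G)) {h : s ∈ centralizer ({a} : Set G)}
    (e : proj a ⟨s, h⟩ = 1) : s = 1 := by
  have h1 := (CfsgLib.ZStar.odd_card_oddCore _).of_dvd_nat
    (Subgroup.orderOf_dvd_natCard _ ((QuotientGroup.eq_one_iff _).1 e))
  rw [Subgroup.orderOf_mk] at h1
  obtain ⟨k, hk⟩ := IsPGroup.iff_orderOf.1 S.2 ⟨s, hs⟩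
  rw [Subgroup.orderOf_mk] at hk
  rw [hk] at h1
  rcases k with _ | k
  · exact orderOf_eq_one_iff.1 (hk.trans (pow_zero 2))
  · exact absurd h1 (Nat.not_odd_iff_even.2 (even_iff_two_dvd.2 (dvd_pow_self 2 k.succ_ne_zero)))

/-- The projection is injective on `S`. -/
theorem proj_inj {s t : G} (hs : s ∈ (S : Subgroup G)) (ht : t ∈ (S : Subgroup G))
    {h₁ : s ∈ centralizer ({a} : Set G)} {h₂ : t ∈ centralizer ({a} : Set G)}
    (e : proj a ⟨s, h₁⟩ = proj a ⟨t, h₂⟩) : s = t := by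
  have h := eq_one_of_proj_eq_one S hS (a := a) (mul_mem hs (inv_mem ht)) (h := mul_mem h₁ (inv_mem h₂)) (by
    rw [show (⟨s * t⁻¹, mul_mem h₁ (inv_mem h₂)⟩ : ↥(centralizer ({a} : Set G))) = ⟨s, h₁⟩ * ⟨t, h₂⟩⁻¹ from rfl,
      map_mul, map_inv, e, mul_inv_cancel])
  exact mul_inv_eq_one.1 h

/-- An element of the image of `S` squaring to one comes from `Ω₁(S)`. -/
theorem exists_omega_of_sq {q : Quo a} (hq : q ∈ (quoSylow S hS ha : Subgroup (Quo a))) (h2 : q * q = 1) :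
    ∃ x, ∃ hx : x ∈ omegaS S hS, proj a ⟨x, mem_centralizer_of_omega S hS ha hx.1⟩ = q := by
  obtain ⟨s, hs, rfl⟩ := exists_of_mem_quoSylow S hS ha hq
  refine ⟨s, ⟨hs, ?_⟩, rfl⟩
  exact eq_one_of_proj_eq_one S hS (a := a) (mul_mem hs hs)
    (h := mem_centralizer_of_omega S hS ha (mul_mem hs hs)) (by rw [← h2, ← map_mul]; rfl)

omit ha in
theorem oddCore_quo (a : G) : Cfsg.oddCore (Quo a) = ⊥ :=
  CfsgLib.Core.pPrimeCore_quotient_pPrimeCore 2 _

omit ha in
include S hS in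
theorem abSylow_quo (a : G) : AbSylow (Quo a) :=
  CfsgLib.AbelianSolvCent.abSylow_of_surjective
    (CfsgLib.AbelianSolvCent.abSylow_subgroup (CfsgLib.AbelianSolvCent.abSylow_of_one S hS) _)
    (proj a) (QuotientGroup.mk'_surjective _)

theorem proj_self_mem_center : proj a ⟨a, mem_centralizer_of_omega S hS ha ha.1⟩ ∈ center (Quo a) := by
  refine mem_center_iff.2 fun q => ?_
  obtain ⟨g, rfl⟩ := QuotientGroup.mk'_surjective _ q
  rw [← map_mul, ← map_mul]
  exact congrArg _ (Subtype.ext (mem_centralizer_singleton_iff.1 g.2))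

theorem mem_Cp_self (K : Subgroup (Quo a)) : a ∈ Cp S hS a K :=
  (mem_Cp S hS ha).2 ⟨ha, Subgroup.center_le_centralizer _ (proj_self_mem_center S hS ha)⟩

variable {K : Subgroup (Quo a)} (hK : Cfsg.IsComponent K)
include hK

theorem sup_eq : Vp S hS a K ⊔ Cp S hS a K = omegaS S hS := by
  refine le_antisymm (sup_le inf_le_left inf_le_left) fun e he => ?_
  have hA := abSylow_quo S hS a
  have hO := oddCore_quo a
  obtain ⟨x, ⟨hxS, hxK⟩, hx⟩ := Sections.exists_projection hA hO (quoSylow S hS ha) hK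
    (mem_quoSylow S hS ha he.1)
  have hec : e ∈ centralizer ({a} : Set G) := mem_centralizer_of_omega S hS ha he.1
  set q := proj a ⟨e, hec⟩ with hq
  have hq2 : q * q = 1 := by
    rw [hq, ← map_mul, show (⟨e, hec⟩ * ⟨e, hec⟩ : ↥(centralizer ({a} : Set G))) = 1 from Subtype.ext he.2,
      map_one]
  have hx2 : (⟨x * x, mul_mem hxK hxK⟩ : K) ∈ center ↥K := mem_center_iff.2 fun k => Subtype.ext (by
    have h1 := hx k k.2
    have h2 := hx _ ((mem_normalizer_iff.1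
      (Sections.sylow_le_normalizer_component hA hO (quoSylow S hS ha) hK (mem_quoSylow S hS ha he.1)) k).1 k.2)
    rw [show q * (q * (k : Quo a) * q⁻¹) * q⁻¹ = (q * q) * (k : Quo a) * (q * q)⁻¹ by group, hq2, h1] at h2
    show (k : Quo a) * (x * x) = x * x * (k : Quo a)
    calc (k : Quo a) * (x * x) = (1 * (k : Quo a) * (1 : Quo a)⁻¹) * (x * x) := by simp
      _ = x * (x * (k : Quo a) * x⁻¹) * x⁻¹ * (x * x) := by rw [h2]
      _ = x * x * (k : Quo a) := by group)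
  rw [Sections.center_component_eq_bot hA hO hK, mem_bot] at hx2
  obtain ⟨y, hy, hyx⟩ := exists_omega_of_sq S hS ha hxS (congrArg Subtype.val hx2)
  rw [show e = y * (y⁻¹ * e) by group]
  refine mul_mem_sup ((mem_Vp S hS ha).2 ⟨hy, hyx ▸ hxK⟩)
    ((mem_Cp S hS ha).2 ⟨mul_mem (inv_mem hy) he, mem_centralizer_iff.2 fun k hk => ?_⟩)
  rw [show (⟨y⁻¹ * e, mem_centralizer_of_omega S hS ha (mul_mem (inv_mem hy) he).1⟩ : ↥(centralizer ({a} : Set G))) =
    ⟨y, mem_centralizer_of_omega S hS ha hy.1⟩⁻¹ * ⟨e, hec⟩ from rfl, map_mul, map_inv, hyx, ← hq]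
  calc k * (x⁻¹ * q) = x⁻¹ * (x * k * x⁻¹) * q := by group
    _ = x⁻¹ * (q * k * q⁻¹) * q := by rw [hx k hk]
    _ = x⁻¹ * q * k := by group

theorem disj : Vp S hS a K ⊓ Cp S hS a K = ⊥ := by
  refine (eq_bot_iff_forall _).2 fun x ⟨hxV, hxC⟩ => ?_
  obtain ⟨hx, hxK⟩ := (mem_Vp S hS ha).1 hxV
  obtain ⟨_, hxc⟩ := (mem_Cp S hS ha).1 hxC
  refine eq_one_of_proj_eq_one S hS (a := a) hx.1 (h := mem_centralizer_of_omega S hS ha hx.1) ?_
  have hc : (⟨_, hxK⟩ : K) ∈ center ↥K := mem_center_iff.2 fun k =>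
    Subtype.ext (mem_centralizer_iff.1 hxc k k.2)
  rw [Sections.center_component_eq_bot (abSylow_quo S hS a) (oddCore_quo a) hK, mem_bot] at hc
  exact congrArg Subtype.val hc

theorem four_le : 4 ≤ Nat.card (Vp S hS a K) := by
  classical
  haveI : Fact (Nat.Prime 2) := ⟨Nat.prime_two⟩
  have hA := abSylow_quo S hS a
  have hO := oddCore_quo a
  haveI := Sections.component_isSimple hA hO hK
  have hna := Sections.component_not_comm hK
  obtain ⟨P, hP⟩ := exists_sylow_component hA hO (quoSylow S hS ha) hK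
  obtain ⟨z, hz⟩ := CfsgLib.AbelianSolvCent.exists_involution (H := ↥K)
    (CfsgLib.Components.IsComponent.not_isSolvable hK)
  obtain ⟨R, hR⟩ := (CfsgLib.Signalizer.isPGroup_zpowers_involution hz).exists_le_sylow
  obtain ⟨g, hg⟩ := MulAction.exists_smul_eq K R P
  set w := g * z * g⁻¹ with hw
  have hw2 : orderOf w = 2 := by rw [hw, CfsgLib.Signalizer.orderOf_conj, hz]
  have hwP : w ∈ (P : Subgroup K) := by
    rw [← hg, Sylow.coe_subgroup_smul]
    exact ⟨z, hR (mem_zpowers z), rfl⟩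
  obtain ⟨n, hn, hne⟩ : ∃ n ∈ normalizer ((P : Subgroup K) : Set K), n * w * n⁻¹ ≠ w := by
    by_contra hcon
    push Not at hcon
    exact not_fixed hna P (CfsgLib.AbelianSolvCent.abSylow_subgroup hA K P) hw2 hwP fun n hn =>
      mul_inv_eq_iff_eq_mul.1 (hcon n hn)
  have hwn : n * w * n⁻¹ ∈ (P : Subgroup K) := (mem_normalizer_iff.1 hn w).1 hwP
  have key : ∀ p : K, p ∈ (P : Subgroup K) → orderOf p = 2 → ∃ x, ∃ hx : x ∈ omegaS S hS,
      x ∈ Vp S hS a K ∧ x ≠ 1 ∧ proj a ⟨x, mem_centralizer_of_omega S hS ha hx.1⟩ = p := by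
    intro p hp hp2
    rw [hP] at hp
    obtain ⟨x, hx, hxp⟩ := exists_omega_of_sq S hS ha (q := (p : Quo a)) hp
      (congrArg Subtype.val (CfsgLib.Signalizer.involution_sq hp2))
    refine ⟨x, hx, (mem_Vp S hS ha).2 ⟨hx, hxp ▸ p.2⟩, fun e => ?_, hxp⟩
    subst e
    exact CfsgLib.Signalizer.involution_ne_one hp2 (Subtype.ext (hxp.symm.trans (map_one (proj a))))
  obtain ⟨x, hx, hxV, hx1, hxp⟩ := key w hwP hw2
  obtain ⟨y, hy, hyV, hy1, hyp⟩ := key _ hwn ((CfsgLib.Signalizer.orderOf_conj n w).trans hw2)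
  have hxy : x ≠ y := fun e => hne (Subtype.ext (by subst e; exact hyp.symm.trans hxp))
  have hxyne : x * y ≠ 1 := fun e => hxy (by rw [← mul_one x, ← hy.2, ← mul_assoc, e, one_mul])
  letI := Fintype.ofFinite G
  have hsub : ({1, x, y, x * y} : Finset G) ⊆ Finset.univ.filter (· ∈ Vp S hS a K) := by
    intro t ht
    simp only [Finset.mem_insert, Finset.mem_singleton] at ht
    simp only [Finset.mem_filter, Finset.mem_univ, true_and]
    rcases ht with rfl | rfl | rfl | rfl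
    exacts [one_mem _, hxV, hyV, mul_mem hxV hyV]
  have hcard : ({1, x, y, x * y} : Finset G).card = 4 := by
    have h1 : x ≠ x * y := fun e => hy1 (mul_left_cancel (e.symm.trans (mul_one x).symm))
    have h2 : y ≠ x * y := fun e => hx1 (mul_right_cancel (e.symm.trans (one_mul y).symm))
    simp [hx1.symm, hy1.symm, hxyne.symm, hxy, h1, h2]
  have hmain := Finset.card_le_card hsub
  rw [hcard] at hmain
  refine hmain.trans (le_of_eq ?_)
  rw [Nat.card_eq_fintype_card, Fintype.card_subtype]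

/-- Transitivity on the first member by elements fixing the second one. -/
theorem trans (hW : SecWalter (Quo a)) {v w : G} (hv : v ∈ Vp S hS a K) (hw : w ∈ Vp S hS a K)
    (hv1 : v ≠ 1) (hw1 : w ≠ 1) :
    ∃ n ∈ centralizer ({a} : Set G) ⊓ normalizer ((S : Subgroup G) : Set G),
      n * v * n⁻¹ = w ∧ ∀ c ∈ Cp S hS a K, n * c * n⁻¹ = c := by
  haveI : Fact (Nat.Prime 2) := ⟨Nat.prime_two⟩
  have hA := abSylow_quo S hS a
  have hO := oddCore_quo a
  obtain ⟨P, hP⟩ := exists_sylow_component hA hO (quoSylow S hS ha) hK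
  obtain ⟨hvE, hvK⟩ := (mem_Vp S hS ha).1 hv
  obtain ⟨hwE, hwK⟩ := (mem_Vp S hS ha).1 hw
  have hord : ∀ {t : G} (ht : t ∈ omegaS S hS), t ≠ 1 →
      orderOf (proj a ⟨t, mem_centralizer_of_omega S hS ha ht.1⟩) = 2 := by
    intro t ht ht1
    refine CfsgLib.Signalizer.orderOf_eq_two_of (fun e => ht1 (eq_one_of_proj_eq_one S hS ht.1 e)) ?_
    rw [← map_mul, show (⟨t, _⟩ * ⟨t, _⟩ : ↥(centralizer ({a} : Set G))) = 1 from Subtype.ext ht.2, map_one]
  obtain ⟨g, hg⟩ := isConj_iff.1 (one_class (Sections.component_type hA hO hW hK)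
    (v := ⟨_, hvK⟩) (w := ⟨_, hwK⟩) (by rw [Subgroup.orderOf_mk]; exact hord hvE hv1)
    (by rw [Subgroup.orderOf_mk]; exact hord hwE hw1))
  have hvP : (⟨_, hvK⟩ : K) ∈ (P : Subgroup K) := by rw [hP]; exact mem_quoSylow S hS ha hvE.1
  have hwP : (⟨_, hwK⟩ : K) ∈ (P : Subgroup K) := by rw [hP]; exact mem_quoSylow S hS ha hwE.1
  obtain ⟨m, hm, hme⟩ := Transfer.exists_normalizer_conj_of_isMulCommutative P
    (CfsgLib.AbelianSolvCent.abSylow_subgroup hA K P) (X := {(⟨_, hvK⟩ : K)})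
    (Set.singleton_subset_iff.mpr hvP) (g := g⁻¹)
    (by rw [Set.image_singleton, inv_inv]; exact Set.singleton_subset_iff.mpr (by rw [hg]; exact hwP))
  have hme' := hme _ rfl
  rw [inv_inv, hg] at hme'
  set k : K := m⁻¹
  have hkN : k ∈ normalizer ((P : Subgroup K) : Set K) := inv_mem hm
  have hkv : k * ⟨_, hvK⟩ * k⁻¹ = ⟨_, hwK⟩ := by
    show m⁻¹ * _ * m⁻¹⁻¹ = _
    rw [inv_inv]; exact hme'
  -- `k` fixes the part of the Sylow subgroup centralising `K`
  have hfix : ∀ c ∈ centralizer (K : Set (Quo a)), (k : Quo a) * c * (k : Quo a)⁻¹ = c := fun c hc => by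
    rw [mul_inv_eq_iff_eq_mul]; exact mem_centralizer_iff.1 hc k k.2
  have hkS : ∀ s ∈ (quoSylow S hS ha : Subgroup (Quo a)),
      (k : Quo a) * s * (k : Quo a)⁻¹ ∈ (quoSylow S hS ha : Subgroup (Quo a)) := by
    intro s hs
    obtain ⟨x, ⟨hxS, hxK⟩, hx⟩ := Sections.exists_projection hA hO (quoSylow S hS ha) hK hs
    have hc : x⁻¹ * s ∈ centralizer (K : Set (Quo a)) := mem_centralizer_iff.2 fun y hy =>
      calc y * (x⁻¹ * s) = x⁻¹ * (x * y * x⁻¹) * s := by group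
        _ = x⁻¹ * (s * y * s⁻¹) * s := by rw [hx y hy]
        _ = x⁻¹ * s * y := by group
    have h1 : (k * ⟨x, hxK⟩ * k⁻¹ : K) ∈ (P : Subgroup K) :=
      (mem_normalizer_iff.1 hkN _).1 (by rw [hP]; exact hxS)
    rw [hP] at h1
    have h2 : (k : Quo a) * s * (k : Quo a)⁻¹ =
        ((k : Quo a) * x * (k : Quo a)⁻¹) * ((k : Quo a) * (x⁻¹ * s) * (k : Quo a)⁻¹) := by group
    rw [h2, hfix _ hc]
    exact mul_mem h1 (mul_mem (inv_mem hxS) hs)
  have hkN' : (k : Quo a) ∈ normalizer ((quoSylow S hS ha : Subgroup (Quo a)) : Set (Quo a)) := by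
    refine mem_normalizer_iff_map_conj_eq.2 (Subgroup.eq_of_le_of_card_ge ?_ (le_of_eq ?_))
    · rintro _ ⟨s, hs, rfl⟩
      exact hkS s hs
    · exact Nat.card_congr (equivMapOfInjective _ _ (MulAut.conj _).injective).toEquiv
  rw [coe_quoSylow] at hkN'
  obtain ⟨n, hn, hnk⟩ := (CfsgLib.PLocal.map_normalizer_eq (Cfsg.oddCore ↥(centralizer ({a} : Set G)))
    (CfsgLib.Core.coprime_card_pPrimeCore 2 _) (P := (S : Subgroup G).subgroupOf (centralizer ({a} : Set G)))
    ((S.2).comap_of_injective _ (subtype_injective _))).ge hkN'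
  have hnS : (n : G) ∈ normalizer ((S : Subgroup G) : Set G) := by
    refine mem_normalizer_iff_map_conj_eq.2 (Subgroup.eq_of_le_of_card_ge ?_ (le_of_eq ?_))
    · rintro _ ⟨s, hs, rfl⟩
      exact (mem_normalizer_iff.1 hn ⟨s, sylow_le S hS ha hs⟩).1 hs
    · exact Nat.card_congr (equivMapOfInjective _ _ (MulAut.conj _).injective).toEquiv
  have hcj : ∀ {t : G} (ht : t ∈ (S : Subgroup G)),
      proj a ⟨(n : G) * t * (n : G)⁻¹, mul_mem (mul_mem n.2 (sylow_le S hS ha ht)) (inv_mem n.2)⟩ =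
        (k : Quo a) * proj a ⟨t, sylow_le S hS ha ht⟩ * (k : Quo a)⁻¹ := fun {t} ht => by
    rw [show (⟨(n : G) * t * (n : G)⁻¹, mul_mem (mul_mem n.2 (sylow_le S hS ha ht)) (inv_mem n.2)⟩ :
      ↥(centralizer ({a} : Set G))) = n * ⟨t, sylow_le S hS ha ht⟩ * n⁻¹ from rfl, map_mul, map_mul, map_inv, hnk]
  refine ⟨n, ⟨n.2, hnS⟩, ?_, fun c hc => ?_⟩
  · exact proj_inj S hS ha ((mem_normalizer_iff.1 hnS v).1 hvE.1) hwE.1 (h₂ := sylow_le S hS ha hwE.1)
      ((hcj hvE.1).trans (congrArg Subtype.val hkv))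
  · obtain ⟨hcE, hcc⟩ := (mem_Cp S hS ha).1 hc
    exact proj_inj S hS ha ((mem_normalizer_iff.1 hnS c).1 hcE.1) hcE.1 (h₂ := sylow_le S hS ha hcE.1)
      ((hcj hcE.1).trans (hfix _ hcc))

/-- The residual of the centraliser of a part `B` of `Cp` covers the component. -/
theorem exists_lift {B : Subgroup G} (hBC : B ≤ Cp S hS a K) (haB : a ∈ B) :
    ∃ P : Subgroup G, P = resOf (centralizer (B : Set G) ⊓ pre a K) ∧ ⁅P, P⁆ = P ∧ P ≤ perfCent B ∧
      P ≤ pre a K ∧ (P.subgroupOf (centralizer ({a} : Set G))).map (proj a) = K := by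
  haveI : Fact (Nat.Prime 2) := ⟨Nat.prime_two⟩
  set X := centralizer ({a} : Set G)
  have hCB : centralizer (B : Set G) ≤ X := centralizer_le (Set.singleton_subset_iff.2 haB)
  set H := centralizer (B : Set G) ⊓ pre a K with hH
  have hHX : H ≤ X := inf_le_left.trans hCB
  refine ⟨resOf H, rfl, resOf_perfect H, le_perfCent ((resOf_le H).trans inf_le_left) (resOf_perfect H),
    (resOf_le H).trans inf_le_right, le_antisymm ?_ ?_⟩
  · rintro _ ⟨x, hx, rfl⟩
    exact (mem_pre.1 ((resOf_le H hx).2)).2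
  have hBS : B ≤ (S : Subgroup G) := fun b hb => (hBC hb).1.1
  have hcov : K ≤ (H.subgroupOf X).map (proj a) := by
    intro q hq
    have h1 : q ∈ centralizer (((B.subgroupOf X).map (proj a) : Subgroup (Quo a)) : Set (Quo a)) := by
      refine mem_centralizer_iff.2 ?_
      rintro _ ⟨b, hb, rfl⟩
      obtain ⟨_, hbc⟩ := (mem_Cp S hS ha).1 (hBC hb)
      exact (mem_centralizer_iff.1 hbc q hq).symm
    obtain ⟨x, hx, rfl⟩ := (CfsgLib.PLocal.map_centralizer_eq (Cfsg.oddCore ↥X)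
      (CfsgLib.Core.coprime_card_pPrimeCore 2 _) (P := B.subgroupOf X)
      ((IsPGroup.to_le S.2 hBS).comap_of_injective _ (subtype_injective _))).ge h1
    refine ⟨x, ⟨mem_centralizer_iff.2 fun b hb => ?_, mem_pre.2 ⟨x.2, hq⟩⟩, rfl⟩
    exact congrArg Subtype.val (mem_centralizer_iff.1 hx ⟨b, (sylow_le S hS ha) (hBS hb)⟩ hb)
  -- restrict to `H`
  let f : ↥H →* Quo a := (proj a).comp (inclusion hHX)
  have hrange : f.range = K := le_antisymm (by rintro _ ⟨x, rfl⟩; exact (mem_pre.1 x.2.2).2)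
    (fun q hq => by obtain ⟨x, hx, rfl⟩ := hcov hq; exact ⟨⟨x, hx⟩, rfl⟩)
  have hres : K = (Three.res ↥H).map f := by
    have h1 := Three.map_res (G := ↥H) f.rangeRestrict_surjective
    have h2 : Three.res ↥f.range = ⊤ := by
      refine top_le_iff.1 (Three.le_res (K := ⊤) (map_injective f.range.subtype_injective ?_))
      haveI := hK.2.1
      rw [map_commutator, ← MonoidHom.range_eq_map, range_subtype, hrange, ← map_subtype_commutator,
        Group.IsPerfect.commutator_eq_top, ← MonoidHom.range_eq_map, range_subtype]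
    conv_rhs => rw [← f.subtype_comp_rangeRestrict, ← map_map, h1, h2, ← MonoidHom.range_eq_map, range_subtype]
    exact hrange.symm
  rw [hres]
  rintro _ ⟨x, hx, rfl⟩
  exact ⟨⟨x, hHX x.2⟩, ⟨x, hx, rfl⟩, rfl⟩

end CfsgLib.Walter.Pairs
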